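import Groth.Prelude.Def_Cyc
import Mathlib

/-!
# Principal divisors: locally finite support, and restriction to open subschemes
-/

set_option autoImplicit false

universe u

open CategoryTheory AlgebraicGeometry TopologicalSpace Topology

namespace Groth.Agent.CycDiv

theorem length_self_eq_of_ringEquiv {T S : Type u} [CommRing T] [CommRing S] (e : T ≃+* S) :
    Module.length T T = Module.length S S := by
  letI := e.toRingHom.toAlgebra
  have h1 : Module.length T S = Module.length S S := Module.length_eq_of_surjective e.surjective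
  rw [← h1]
  exact LinearEquiv.length_eq (LinearEquiv.ofBijective (Algebra.linearMap T S) e.bijective)

/-- The order of vanishing is invariant under ring isomorphisms. -/
theorem ord_congr {T S : Type u} [CommRing T] [CommRing S] (e : T ≃+* S) (x : T) :
    Ring.ord S (e x) = Ring.ord T x := by
  have hq : (T ⧸ Ideal.span {x}) ≃+* (S ⧸ Ideal.span {e x}) :=
    Ideal.quotientEquiv _ _ e (by simp [Ideal.map_span])
  unfold Ring.ord
  rw [Module.length_eq_of_surjective (R := S ⧸ Ideal.span {e x}) Ideal.Quotient.mk_surjective,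
    Module.length_eq_of_surjective (R := T ⧸ Ideal.span {x}) Ideal.Quotient.mk_surjective]
  exact (length_self_eq_of_ringEquiv hq).symm

/-- The order on the fraction field is invariant under compatible isomorphisms. -/
theorem ordFrac_congr {T S : Type u} [CommRing T] [CommRing S] {K L : Type u} [Field K] [Field L]
    [Algebra T K] [Algebra S L] (e : T ≃+* S) (φ : K ≃+* L)
    (h : ∀ a, φ (algebraMap T K a) = algebraMap S L (e a)) (x : K) :
    CycAlg.ordFrac S L (φ x) = CycAlg.ordFrac T K x := by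
  have hfr : IsFractionRing T K → IsFractionRing S L := by
    intro hK
    have := (IsFractionRing.injective T K)
    haveI : FaithfulSMul S L := (faithfulSMul_iff_algebraMap_injective S L).mpr fun a b hab => by
      obtain ⟨a, rfl⟩ := e.surjective a
      obtain ⟨b, rfl⟩ := e.surjective b
      rw [← h, ← h] at hab
      rw [this (φ.injective hab)]
    refine IsFractionRing.of_field S L fun z => ?_
    obtain ⟨z, rfl⟩ := φ.surjective z
    obtain ⟨a, b, -, rfl⟩ := IsFractionRing.div_surjective (A := T) z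
    exact ⟨e a, e b, by rw [map_div₀, h, h]⟩
  have hfr' : IsFractionRing S L → IsFractionRing T K := by
    intro hL
    have := (IsFractionRing.injective S L)
    haveI : FaithfulSMul T K := (faithfulSMul_iff_algebraMap_injective T K).mpr fun a b hab => by
      have := congrArg φ hab
      rw [h, h] at this
      exact e.injective (IsFractionRing.injective S L this)
    refine IsFractionRing.of_field T K fun z => ?_
    obtain ⟨a, b, -, hz⟩ := IsFractionRing.div_surjective (A := S) (φ z)
    obtain ⟨a, rfl⟩ := e.surjective a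
    obtain ⟨b, rfl⟩ := e.surjective b
    exact ⟨a, b, φ.injective (by rw [← hz, map_div₀, h, h])⟩
  have hdim : Ring.KrullDimLE 1 T ↔ Ring.KrullDimLE 1 S := by
    rw [Ring.krullDimLE_iff, Ring.krullDimLE_iff, ringKrullDim_eq_of_ringEquiv e]
  have hiff : (IsNoetherianRing T ∧ Ring.KrullDimLE 1 T ∧ Nontrivial T ∧ IsFractionRing T K) ↔
      (IsNoetherianRing S ∧ Ring.KrullDimLE 1 S ∧ Nontrivial S ∧ IsFractionRing S L) :=
    ⟨fun ⟨h1, h2, h3, h4⟩ => ⟨isNoetherianRing_of_ringEquiv T e, hdim.mp h2,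
        e.symm.toEquiv.nontrivial, hfr h4⟩,
      fun ⟨h1, h2, h3, h4⟩ => ⟨isNoetherianRing_of_ringEquiv S e.symm, hdim.mpr h2,
        e.toEquiv.nontrivial, hfr' h4⟩⟩
  unfold CycAlg.ordFrac
  by_cases hT : IsNoetherianRing T ∧ Ring.KrullDimLE 1 T ∧ Nontrivial T ∧ IsFractionRing T K
  · rw [dif_pos hT, dif_pos (hiff.mp hT)]
    obtain ⟨h1, h2, h3, h4⟩ := hT
    obtain ⟨g1, g2, g3, g4⟩ := hiff.mp ⟨h1, h2, h3, h4⟩
    suffices H : Ring.ordFrac S (φ x) = Ring.ordFrac T x by rw [H]
    haveI : IsDomain T := (IsFractionRing.injective T K).isDomain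
    haveI : IsDomain S := (IsFractionRing.injective S L).isDomain
    have key : ∀ a : T, Ring.ordFrac S (φ (algebraMap T K a)) = Ring.ordFrac T (algebraMap T K a) := by
      intro a
      by_cases ha : a = 0
      · simp [ha]
      have hea : e a ≠ 0 := fun h' => ha (e.injective (h'.trans e.map_zero.symm))
      rw [h, Ring.ordFrac_eq_ord S hea, Ring.ordFrac_eq_ord T ha]
      simp [Ring.ordMonoidWithZeroHom, mem_nonZeroDivisors_iff_ne_zero.mpr ha,
        mem_nonZeroDivisors_iff_ne_zero.mpr hea, ord_congr]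
    obtain ⟨a, b, -, rfl⟩ := IsFractionRing.div_surjective (A := T) x
    rw [map_div₀ φ, map_div₀, map_div₀, key, key]
  · rw [dif_neg hT, dif_neg (fun h' => hT (hiff.mpr h'))]

section scheme

variable {X : Scheme.{u}} (δ : X → ℤ)

/-- A rational function which is a quotient of units at `x` has order zero there. -/
theorem ordAt_div_eq_zero {x ξ : X} (h : ξ ⤳ x) {a b : X.presheaf.stalk x} (ha : IsUnit a) (hb : IsUnit b) :
    Cyc.ordAt x ξ h (Cyc.specMap x ξ h a / Cyc.specMap x ξ h b) = 0 := by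
  rw [Cyc.ordAt, CycAlg.ordFrac]
  split_ifs with hh
  · have := hh.1; have := hh.2.1; have := hh.2.2.1; have := hh.2.2.2
    haveI : IsDomain (Cyc.LocQuot x ξ h) :=
      (IsFractionRing.injective (Cyc.LocQuot x ξ h) (X.residueField ξ)).isDomain
    have e : ∀ c, Cyc.specMap x ξ h c =
        algebraMap (Cyc.LocQuot x ξ h) (X.residueField ξ) (Ideal.Quotient.mk _ c) := fun c => rfl
    rw [e a, e b, map_div₀, Ring.ordFrac_of_isUnit (ha.map _), Ring.ordFrac_of_isUnit (hb.map _), div_one]
    rfl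
  · rfl

/-- A dimension function bounds the points of codimension one inside a closed set. -/
theorem finite_of_isDimFun [IsLocallyNoetherian X] (hδ : Cyc.IsDimFun X δ) {V : X.Opens} (hV : IsAffineOpen V)
    (ξ : X) (C : Set X) (hC : IsClosed C) (hξC : ξ ∉ C) (hCV : ∀ y ∈ C, ξ ⤳ y) :
    {x : X | x ∈ C ∧ x ∈ V ∧ δ x + 1 = δ ξ}.Finite := by
  haveI : IsNoetherianRing Γ(X, V) := IsLocallyNoetherian.component_noetherian ⟨V, hV⟩
  let F : PrimeSpectrum Γ(X, V) → X := fun p => hV.fromSpec p
  have hF : Topology.IsEmbedding F := hV.fromSpec.isOpenEmbedding.isEmbedding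
  have hrange : Set.range F = (V : Set X) := hV.range_fromSpec
  let C' : Set (PrimeSpectrum Γ(X, V)) := F ⁻¹' C
  have hC' : IsClosed C' := hC.preimage hF.continuous
  have hI := PrimeSpectrum.zeroLocus_vanishingIdeal_eq_closure C'
  rw [hC'.closure_eq] at hI
  let I := PrimeSpectrum.vanishingIdeal C'
  refine Set.Finite.subset ((((I.finite_minimalPrimes_of_isNoetherianRing).preimage
    (f := PrimeSpectrum.asIdeal) (fun a _ b _ h => PrimeSpectrum.ext h)).image F)) ?_
  rintro x ⟨hxC, hxV, hxδ⟩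
  obtain ⟨p, rfl⟩ : x ∈ Set.range F := hrange ▸ hxV
  refine ⟨p, ?_, rfl⟩
  have hpC : p ∈ PrimeSpectrum.zeroLocus (I : Set Γ(X, V)) := hI ▸ hxC
  refine ⟨⟨p.2, hpC⟩, fun q ⟨hq, hIq⟩ hqp => ?_⟩
  let Q : PrimeSpectrum Γ(X, V) := ⟨q, hq⟩
  have hQC : F Q ∈ C := by
    have : Q ∈ PrimeSpectrum.zeroLocus (I : Set Γ(X, V)) := hIq
    exact (hI ▸ this : Q ∈ C')
  have hQp : F Q ⤳ F p := ((PrimeSpectrum.le_iff_specializes Q p).mp hqp).map hF.continuous
  by_cases hne : F Q = F p
  · exact le_of_eq (congrArg PrimeSpectrum.asIdeal (hF.injective hne).symm)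
  · have h1 := (hδ (F Q) (F p) hQp hne).1
    have h2 := (hδ ξ (F Q) (hCV _ hQC) (fun e => hξC (e ▸ hQC))).1
    omega

/-- The divisor of a rational function on the closure of a point has locally finite support. -/
theorem exists_nhd_finite_divFun [IsLocallyNoetherian X] (hδ : Cyc.IsDimFun X δ) (ξ : X)
    (f : X.residueField ξ) (hf : f ≠ 0) {V : X.Opens} (hV : IsAffineOpen V) :
    {x : X | x ∈ V ∧ Cyc.divFun δ ξ f x ≠ 0}.Finite := by
  by_cases hξ : ξ ∈ V
  · obtain ⟨c, hc⟩ := X.residue_surjective ξ f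
    letI := TopCat.Presheaf.algebra_section_stalk X.presheaf (⟨ξ, hξ⟩ : V)
    haveI : IsLocalization.AtPrime (X.presheaf.stalk ξ) (hV.primeIdealOf ⟨ξ, hξ⟩).asIdeal :=
      hV.isLocalization_stalk ⟨ξ, hξ⟩
    obtain ⟨a, ⟨b, hb⟩, hab⟩ := IsLocalization.exists_mk'_eq (hV.primeIdealOf ⟨ξ, hξ⟩).asIdeal.primeCompl c
    have hgb : IsUnit (X.presheaf.germ V ξ hξ b) :=
      IsLocalization.map_units (X.presheaf.stalk ξ) (⟨b, hb⟩ : (hV.primeIdealOf ⟨ξ, hξ⟩).asIdeal.primeCompl)
    have hcb : c * X.presheaf.germ V ξ hξ b = X.presheaf.germ V ξ hξ a := by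
      rw [← hab]
      exact IsLocalization.mk'_spec _ _ _
    have hfab : f = X.residue ξ (X.presheaf.germ V ξ hξ a) / X.residue ξ (X.presheaf.germ V ξ hξ b) := by
      rw [eq_div_iff (hgb.map (X.residue ξ).hom).ne_zero, ← hcb, map_mul, hc]
    have hga : IsUnit (X.presheaf.germ V ξ hξ a) := by
      by_contra hu
      refine hf ?_
      rw [hfab, show X.residue ξ (X.presheaf.germ V ξ hξ a) = 0 from ?_, zero_div]
      exact (IsLocalRing.residue_eq_zero_iff _).mpr hu
    let C : Set X := closure {ξ} ∩ (X.basicOpen (a * b) : Set X)ᶜ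
    have hξC : ξ ∉ C := fun h => h.2 ((Scheme.mem_basicOpen X (a * b) ξ hξ).mpr (by
      rw [map_mul]; exact hga.mul hgb))
    refine Set.Finite.subset (finite_of_isDimFun δ hδ hV ξ C
      (isClosed_closure.inter (X.basicOpen (a * b)).2.isClosed_compl) hξC
      (fun y hy => specializes_iff_mem_closure.mpr hy.1)) ?_
    rintro x ⟨hxV, hx⟩
    rw [Cyc.divFun] at hx
    split_ifs at hx with h
    · refine ⟨⟨specializes_iff_mem_closure.mp h.1, fun hxb => hx ?_⟩, hxV, h.2⟩
      have hu := (Scheme.mem_basicOpen X (a * b) x hxV).mp hxb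
      rw [map_mul, IsUnit.mul_iff] at hu
      have key : ∀ s, X.residue ξ (X.presheaf.germ V ξ hξ s) =
          Cyc.specMap x ξ h.1 (X.presheaf.germ V x hxV s) := fun s => by
        show _ = (X.presheaf.stalkSpecializes h.1 ≫ X.residue ξ).hom _
        rw [CommRingCat.hom_comp, RingHom.comp_apply]
        congr 1
        exact (X.presheaf.germ_stalkSpecializes_apply hxV h.1 s).symm
      rw [hfab, key, key, ordAt_div_eq_zero h.1 hu.1 hu.2]
    · exact absurd rfl hx
  · refine Set.Finite.subset Set.finite_empty ?_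
    rintro x ⟨hxV, hx⟩
    rw [Cyc.divFun] at hx
    split_ifs at hx with h
    · exact absurd (h.1.mem_open V.2 hxV) hξ
    · exact absurd rfl hx

end scheme

section openImmersion

variable {X Y : Scheme.{u}} (j : Y ⟶ X) [IsOpenImmersion j]

/-- The transported rational function. -/
noncomputable def pushVal (ξ : Y) (f : Y.residueField ξ) : X.residueField (j ξ) :=
  inv (j.residueFieldMap ξ) f

theorem pushVal_ne_zero (ξ : Y) (f : Y.residueField ξ) (hf : f ≠ 0) : pushVal j ξ f ≠ 0 := by
  intro h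
  refine hf ?_
  have := congrArg (j.residueFieldMap ξ) h
  rw [map_zero, pushVal, ← ConcreteCategory.comp_apply, IsIso.inv_hom_id] at this
  exact this

theorem divFun_comp (δ : X → ℤ) (ξ u : Y) (f : Y.residueField ξ) :
    Cyc.divFun δ (j ξ) (pushVal j ξ f) (j u) = Cyc.divFun (fun y => δ (j y)) ξ f u := by
  have hsp : ξ ⤳ u ↔ j ξ ⤳ j u := j.isOpenEmbedding.isInducing.specializes_iff.symm
  unfold Cyc.divFun
  by_cases h : ξ ⤳ u ∧ δ (j u) + 1 = δ (j ξ)
  · have h' : j ξ ⤳ j u := hsp.mp h.1
    rw [dif_pos ⟨h', h.2⟩, dif_pos h]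
    let ψ : X.presheaf.stalk (j u) ≃+* Y.presheaf.stalk u := (asIso (j.stalkMap u)).commRingCatIsoToRingEquiv
    let φ : X.residueField (j ξ) ≃+* Y.residueField ξ :=
      (asIso (j.residueFieldMap ξ)).commRingCatIsoToRingEquiv
    have hφf : φ (pushVal j ξ f) = f := by
      show (j.residueFieldMap ξ) (inv (j.residueFieldMap ξ) f) = f
      rw [← ConcreteCategory.comp_apply, IsIso.inv_hom_id]
      rfl
    have hsq : ∀ a, φ (Cyc.specMap (j u) (j ξ) h' a) = Cyc.specMap u ξ h.1 (ψ a) := fun a => by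
      show (X.presheaf.stalkSpecializes h' ≫ X.residue (j ξ) ≫ j.residueFieldMap ξ) a =
        (j.stalkMap u ≫ Y.presheaf.stalkSpecializes h.1 ≫ Y.residue ξ) a
      rw [Scheme.residue_residueFieldMap, Scheme.Hom.stalkSpecializes_stalkMap_assoc]
    have hker : RingHom.ker (Cyc.specMap u ξ h.1) =
        (RingHom.ker (Cyc.specMap (j u) (j ξ) h')).map ψ.toRingHom := by
      ext b
      obtain ⟨a, rfl⟩ := ψ.surjective b
      rw [Ideal.mem_map_iff_of_surjective ψ.toRingHom ψ.surjective]
      constructor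
      · intro hb
        refine ⟨a, ?_, rfl⟩
        rw [RingHom.mem_ker, ← φ.map_eq_zero_iff, hsq]
        exact hb
      · rintro ⟨c, hc, hcb⟩
        rw [RingHom.mem_ker, ← hcb, show ψ.toRingHom c = ψ c from rfl, ← hsq, RingHom.mem_ker.mp hc, map_zero]
    let e := Ideal.quotientEquiv _ _ ψ hker
    unfold Cyc.ordAt
    refine Eq.trans ?_ (congrArg _ hφf)
    refine (ordFrac_congr e φ (fun a => ?_) _).symm
    obtain ⟨a, rfl⟩ := Ideal.Quotient.mk_surjective a
    exact hsq a
  · rw [dif_neg h, dif_neg (fun h' => h ⟨hsp.mpr h'.1, h'.2⟩)]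

end openImmersion

end Groth.Agent.CycDiv
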